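import Cfsg.Agent.Lib.Recog.SporBound.Sound
import Cfsg.Agent.Lib.Recog.SporBound.HeTvTop.Tree0

set_option autoImplicit false
set_option maxRecDepth 20000

/-! Generated closure certificate: centraliser of a transvection in SL5(2) over SL3(2) (helper22) (owner: helper22). -/

namespace CfsgLib.Recog.SporBound.HeTvTop
open CfsgLib.Recog.SporBound

noncomputable def factTree : Q (ℕ) := ft5
noncomputable def nodeTree : Q (ℕ) := ct0
noncomputable def stepTree : Q (List ℕ) := st6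
noncomputable def finalTree : Q (List ℕ) := et12

/-- The certificate. -/
noncomputable def cert : Cert where
  n := 128
  nd := 169
  nf := 524
  kl := [0, 1, 2, 3, 4, 5]
  facts := factTree
  cn := nodeTree
  steps := stepTree
  finals := finalTree
  rels := [[0, 0], [1, 1], [2, 2], [3, 3], [4, 4], [5, 5], [0, 1, 0, 1, 0, 1], [0, 2, 0, 2, 0, 2, 0, 2], [0, 3, 0, 3], [0, 4, 0, 4, 0, 4, 0, 4], [0, 5, 0, 5], [1, 2, 1, 2], [1, 3, 1, 3, 1, 3, 1, 3], [1, 4, 1, 4], [1, 5, 1, 5, 1, 5, 1, 5], [2, 3, 2, 3, 2, 3], [2, 4, 2, 4], [2, 5, 2, 5], [3, 4, 3, 4], [3, 5, 3, 5], [4, 5, 4, 5, 4, 5, 4, 5], [5, 4, 5, 1, 5, 4, 5, 1], [0, 1, 0, 1, 3, 0, 1, 0, 1, 3, 0, 1, 0, 1, 3], [2, 3, 2, 3, 1, 2, 3, 2, 3, 1, 2, 3, 2, 3, 1], [1, 0, 1, 0, 5, 1, 0, 1, 0, 5, 1, 0, 1, 0, 5], [1, 0, 1, 0, 4, 1, 0, 1, 0, 4, 1, 0, 1, 0, 4]]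
  subs := [[0], [1], [2], [3]]

/-- Chains of the traced words. -/
noncomputable def closers : List ℕ := []

end CfsgLib.Recog.SporBound.HeTvTop
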